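import Mathlib
import Groth.Agent.S1550
import Groth.Agent.ClosedRep.Over
import Groth.Agent.SmoothRed.Scheme

universe u
open CategoryTheory CategoryTheory.Limits MonoidalCategory CartesianMonoidalCategory MonObj AlgebraicGeometry

namespace Groth.Agent.PtsDense

/-- Rational points are dense on a smooth scheme over a separably closed field. -/
theorem dense_rational (K : Type u) [Field K] [IsSepClosed K] {X : Scheme.{u}}
    (f : X ⟶ Spec (CommRingCat.of K)) [Smooth f] :
    Dense {x : X | ∃ s : Spec (CommRingCat.of K) ⟶ X, s ≫ f = 𝟙 _ ∧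
      s (IsLocalRing.closedPoint K) = x} := by
  letI : X.Over (Spec (CommRingCat.of K)) := ⟨f⟩
  haveI : Smooth (X ↘ Spec (CommRingCat.of K)) := ‹Smooth f›
  refine (Groth.Agent.S1550.result K X).mono ?_
  rintro x ⟨-, hfin, hsep⟩
  letI := Curv2.resAlgebra K X x
  haveI : Algebra.IsSeparable K (X.residueField x) := hsep
  have hb : Function.Bijective (algebraMap K (X.residueField x)) :=
    IsSepClosed.algebraMap_bijective K (X.residueField x)
  let e : K ≃+* X.residueField x := RingEquiv.ofBijective _ hb
  let s : Spec (CommRingCat.of K) ⟶ X :=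
    Spec.map (CommRingCat.ofHom e.symm.toRingHom) ≫ X.fromSpecResidueField x
  refine ⟨s, ?_, X.fromSpecResidueField_apply x _⟩
  have key : X.fromSpecResidueField x ≫ f = Spec.map (CommRingCat.ofHom (algebraMap K (X.residueField x))) := by
    obtain ⟨ψ, hψ⟩ := Spec.map_surjective (X.fromSpecResidueField x ≫ f)
    rw [← hψ]
    congr 1
    have h1 : ψ = (Scheme.ΓSpecIso _).inv ≫ (Spec.map ψ).appTop ≫ (Scheme.ΓSpecIso _).hom := by
      rw [Scheme.ΓSpecIso_naturality, Iso.inv_hom_id_assoc]
    rw [h1, hψ, Scheme.Hom.comp_appTop, Category.assoc]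
    have h2 : (X.fromSpecResidueField x).appTop ≫ (Scheme.ΓSpecIso _).hom =
        X.presheaf.germ ⊤ x trivial ≫ X.residue x := by
      rw [Scheme.fromSpecResidueField, Scheme.Hom.comp_appTop, Scheme.fromSpecStalk_appTop, Category.assoc,
        Category.assoc, Scheme.ΓSpecIso_naturality]
      simp
    rw [h2]
    rfl
  show (_ ≫ _) ≫ f = _
  rw [Category.assoc, key, ← Spec.map_comp, ← Spec.map_id]
  congr 1
  ext c
  exact e.symm_apply_apply c

/-- A closed subscheme of a smooth scheme containing all points with values in a separably closed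
extension is everything. -/
theorem isIso_of_points_factor (k K : Type u) [Field k] [Field K] [Algebra k K] [IsSepClosed K]
    {X P : Scheme.{u}} (f : X ⟶ Spec (CommRingCat.of k)) [Smooth f] (j : P ⟶ X) [IsClosedImmersion j]
    (h : ∀ x : Spec (CommRingCat.of K) ⟶ X, x ≫ f = Spec.map (CommRingCat.ofHom (algebraMap k K)) →
      ∃ y, y ≫ j = x) : IsIso j := by
  let φ := Spec.map (CommRingCat.ofHom (algebraMap k K))
  haveI : Flat φ := (HasRingHomProperty.Spec_iff (P := @Flat)).mpr
    (RingHom.flat_algebraMap_iff.mpr (inferInstance : Module.Flat k K))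
  haveI : Surjective φ := ⟨fun y => ⟨IsLocalRing.closedPoint K,
    @Subsingleton.elim _ (inferInstanceAs (Subsingleton (PrimeSpectrum k))) _ _⟩⟩
  let pr := pullback.fst f φ
  let fK := pullback.snd f φ
  haveI : IsReduced (pullback f φ) := Groth.Agent.SmoothRed.isReduced_of_smooth_scheme fK
  let j' := pullback.snd j pr
  haveI : IsClosedImmersion j' := inferInstance
  haveI : Surjective j' := by
    refine ⟨Set.range_eq_univ.mp (Set.eq_univ_of_univ_subset ?_)⟩
    rw [← (dense_rational K fK).closure_eq]
    refine closure_minimal ?_ (Scheme.Hom.isClosedEmbedding j').isClosed_range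
    rintro _ ⟨s, hs, rfl⟩
    obtain ⟨y, hy⟩ := h (s ≫ pr) (by
      rw [Category.assoc, pullback.condition, ← Category.assoc, hs, Category.id_comp])
    exact ⟨(pullback.lift y s hy : Spec (CommRingCat.of K) ⟶ pullback j pr) (IsLocalRing.closedPoint K), by
      show (pullback.lift y s hy ≫ pullback.snd j pr) (IsLocalRing.closedPoint K) = s (IsLocalRing.closedPoint K)
      rw [pullback.lift_snd]⟩
  haveI : IsIso j' := isIso_of_isClosedImmersion_of_surjective (Y := pullback f φ) j'
  exact MorphismProperty.of_pullback_snd_of_descendsAlong (P := MorphismProperty.isomorphisms Scheme)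
    (Q := @Surjective ⊓ @Flat ⊓ @QuasiCompact) (f := j) (g := pr)
    ⟨⟨inferInstance, inferInstance⟩, inferInstance⟩ (inferInstanceAs (IsIso j'))

variable {S : Scheme.{u}}

/-- Two morphisms of `k`-schemes agreeing on points in a separably closed extension are equal. -/
theorem hom_eq_of_points (k K : Type u) [Field k] [Field K] [Algebra k K] [IsSepClosed K]
    {X G : Over (Spec (CommRingCat.of k))} [Smooth X.hom] [GrpObj G] (a b : X ⟶ G)
    (h : ∀ x : Over.mk (Spec.map (CommRingCat.ofHom (algebraMap k K))) ⟶ X, x ≫ a = x ≫ b) : a = b := by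
  haveI : IsClosedImmersion η[G].left :=
    isClosedImmersion_of_comp_eq_id (Y := Spec (CommRingCat.of k)) G.hom η[G].left (by simp)
  haveI := Groth.Agent.ClosedRep.isClosedImmersion_equalizer_of_grp a b
  haveI : IsIso (equalizer.ι a b).left := isIso_of_points_factor k K X.hom _ fun x hx => by
    let x' : Over.mk (Spec.map (CommRingCat.ofHom (algebraMap k K))) ⟶ X := Over.homMk x hx
    exact ⟨(equalizer.lift x' (h x')).left, congrArg CommaMorphism.left (equalizer.lift_ι x' _)⟩
  haveI : IsIso (equalizer.ι a b) := (isIso_iff_of_reflects_iso _ (Over.forget _)).mp this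
  exact (cancel_epi (equalizer.ι a b)).mp (equalizer.condition a b)

/-- the locus where a family of maps lands in a closed subscheme is closed -/
theorem exists_closed_factLocus {X T Y H : Over S} (c : X ⊗ T ⟶ Y) (i : H ⟶ Y)
    [IsClosedImmersion i.left] (hX : Groth.Agent.ClosedRep.IsLocFree X.hom) :
    ∃ (Z : Over S) (z : Z ⟶ T), IsClosedImmersion z.left ∧
      ∀ (T' : Over S) (x : T' ⟶ T), (∃ w, w ≫ z = x) ↔ ∃ w : X ⊗ T' ⟶ H, w ≫ i = (X ◁ x) ≫ c := by
  let e := pullback.fst c.left i.left
  let I : (pullback X.hom T.hom).IdealSheafData := e.ker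
  obtain ⟨J, hJ⟩ := Groth.Agent.ClosedRep.exists_reps_zeroOn X.hom T.hom I hX
  refine ⟨Over.mk (J.subschemeι ≫ T.hom), Over.homMk J.subschemeι rfl,
    inferInstanceAs (IsClosedImmersion J.subschemeι), fun T' x ↦ ?_⟩
  have h1 : (∃ z, z ≫ Over.homMk (U := Over.mk (J.subschemeι ≫ T.hom)) J.subschemeι rfl = x) ↔
      ∃ z : T'.left ⟶ J.subscheme, z ≫ J.subschemeι = x.left := by
    constructor
    · rintro ⟨z, rfl⟩
      exact ⟨z.left, rfl⟩
    · rintro ⟨z, hz⟩
      refine ⟨Over.homMk z ?_, Over.OverMorphism.ext ((Over.comp_left _ _ _ _ _).trans hz)⟩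
      change z ≫ J.subschemeι ≫ T.hom = T'.hom
      rw [reassoc_of% hz, Over.w]
  rw [h1, hJ.factors_iff, Groth.Agent.ClosedRep.zeroOn_iff X.hom T.hom I x.left T'.hom (Over.w x),
    Groth.Agent.ClosedRep.comap_eq_bot_iff]
  have h2 : (X ◁ x).left = Groth.Agent.ClosedRep.pm X.hom x.left (Over.w x) := by
    apply pullback.hom_ext
    · rw [Over.whiskerLeft_left_fst, pullback.lift_fst]
    · rw [Over.whiskerLeft_left_snd, pullback.lift_snd]
  rw [← h2]
  constructor
  · intro le
    let m := IsClosedImmersion.lift e (X ◁ x).left le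
    have hm : m ≫ e = (X ◁ x).left := IsClosedImmersion.lift_fac _ _ _
    have hw : (m ≫ pullback.snd c.left i.left) ≫ i.left = (X ◁ x).left ≫ c.left := by
      rw [Category.assoc, ← pullback.condition, ← Category.assoc, hm]
    refine ⟨Over.homMk (m ≫ pullback.snd c.left i.left) ?_, Over.OverMorphism.ext hw⟩
    rw [← Over.w i, ← Category.assoc, hw, Category.assoc, Over.w, Over.w]
  · rintro ⟨w, hw⟩
    have hw' : w.left ≫ i.left = (X ◁ x).left ≫ c.left := congrArg CommaMorphism.left hw
    have := Scheme.Hom.le_ker_comp (pullback.lift (f := c.left) (g := i.left) (X ◁ x).left w.left hw'.symm) e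
    rwa [pullback.lift_fst] at this

end Groth.Agent.PtsDense
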